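import Groth.Agent.IndEtLib.Basic
import Mathlib.RingTheory.Flat.EquationalCriterion
import Mathlib.RingTheory.Etale.Weakly

/-!
# Flatness through lifts of relations; ind-étale maps are weakly étale
-/

set_option autoImplicit false
universe w u u' v

open CategoryTheory CategoryTheory.Limits TensorProduct

namespace IndEtLib

/-- If every relation lifts to a flat module, the module is flat. -/
theorem flat_of_lifts {R : Type u} {M : Type v} [CommRing R] [AddCommGroup M] [Module R M]
    (H : ∀ {l : ℕ} (f : Fin l → R) (x : Fin l → M), ∑ i, f i • x i = 0 →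
      ∃ (R' : Type u) (M' : Type v) (_ : CommRing R') (_ : AddCommGroup M') (_ : Module R' M')
        (_ : Module.Flat R' M') (φ : R' →+* R) (ψ : M' →+ M) (_ : ∀ r m, ψ (r • m) = φ r • ψ m)
        (f' : Fin l → R') (x' : Fin l → M'), (∀ i, φ (f' i) = f i) ∧ (∀ i, ψ (x' i) = x i) ∧
          ∑ i, f' i • x' i = 0) : Module.Flat R M := by
  refine Module.Flat.of_forall_isTrivialRelation fun {l} {f} {x} h => ?_
  obtain ⟨R', M', _, _, _, _, φ, ψ, hψ, f', x', hf, hx, h'⟩ := H f x h
  obtain ⟨k, a, y, ha, hy⟩ := Module.Flat.isTrivialRelation_of_sum_smul_eq_zero h'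
  refine ⟨k, fun i j => φ (a i j), fun j => ψ (y j), fun i => ?_, fun j => ?_⟩
  · rw [← hx i, ha i, map_sum]
    exact Finset.sum_congr rfl fun j _ => hψ _ _
  · have := congrArg φ (hy j)
    simpa [map_sum, hf] using this

variable (A B : Type u) [CommRing A] [CommRing B] [Algebra A B]

theorem weaklyEtale_of_isIndEtale (h : EtPBC.IsIndEtale A B) : Algebra.WeaklyEtale A B := by
  obtain ⟨J, _, _, D, t, s, hs, hts⟩ := (isIndEtale_iff A B).1 h
  have hc := isColimitOfPreserves (forget CommRingCat) hs
  let _ : ∀ j, Algebra A (D.obj j) := fun j => (t.app j).hom.toAlgebra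
  have _ : ∀ j, Algebra.Etale A (D.obj j) := fun j => (hts j).1
  let π : ∀ j, (D.obj j : Type u) →ₐ[A] B := fun j =>
    { (s.app j).hom with
      commutes' := fun a => congr($((hts j).2).hom a) }
  let tr : ∀ {i k : J}, (i ⟶ k) → ((D.obj i : Type u) →ₐ[A] (D.obj k : Type u)) := fun {i k} a =>
    { (D.map a).hom with
      commutes' := fun x => by
        have := congr($(t.naturality a).hom x)
        exact this.symm }
  have hπtr : ∀ {i k : J} (a : i ⟶ k) x, π k (tr a x) = π i x := fun {i k} a x => by
    have := congr($(s.naturality a).hom x)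
    exact this
  have hsurj : ∀ b : B, ∃ j x, π j x = b := fun b =>
    Types.jointly_surjective_of_isColimit hc b
  have hzero : ∀ i x, π i x = 0 → ∃ (k : J) (a : i ⟶ k), tr a x = 0 := fun i x hx => by
    obtain ⟨k, a, b, hab⟩ := (Types.FilteredColimit.isColimit_eq_iff _ hc (xi := x) (j := i) (xj := (0 : D.obj i))).1
      (by show π i x = π i 0; rw [hx, map_zero])
    exact ⟨k, a, hab.trans (map_zero (D.map b).hom)⟩
  have hup : ∀ {ι : Type} (s : Finset ι) (f : ι → J), ∃ k, ∀ i ∈ s, Nonempty (f i ⟶ k) := fun s f => by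
    classical
    obtain ⟨k, hk⟩ := IsFiltered.sup_objs_exists (s.image f)
    exact ⟨k, fun i hi => hk (Finset.mem_image_of_mem f hi)⟩
  have hlift : ∀ {l : ℕ} (x : Fin l → B), ∃ j, ∀ i, ∃ y, π j y = x i := fun x => by
    choose jf xf hxf using fun i => hsurj (x i)
    obtain ⟨j, hj⟩ := hup Finset.univ jf
    exact ⟨j, fun i => ⟨tr (hj i (Finset.mem_univ i)).some (xf i), by rw [hπtr, hxf]⟩⟩
  refine ⟨flat_of_lifts fun f x hfx => ?_, ?_⟩
  · obtain ⟨j, hj⟩ := hlift x
    choose y hy using hj
    obtain ⟨k, a, ha⟩ := hzero j (∑ i, f i • y i) (by simp [hy, hfx])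
    refine ⟨A, D.obj k, inferInstance, inferInstance, inferInstance, inferInstance, RingHom.id A,
      (π k).toAddMonoidHom, fun r m => map_smul (π k) r m, f, fun i => tr a (y i), fun i => rfl,
      fun i => (hπtr a (y i)).trans (hy i), ?_⟩
    simpa using ha
  · show (Algebra.TensorProduct.lmul' A (S := B)).toRingHom.Flat
    let _ : Algebra (B ⊗[A] B) B := (Algebra.TensorProduct.lmul' A (S := B)).toRingHom.toAlgebra
    refine flat_of_lifts fun {l} f x hfx => ?_
    have hpairs : ∀ z : B ⊗[A] B, ∃ (j : J) (y : (D.obj j : Type u) ⊗[A] (D.obj j : Type u)),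
        Algebra.TensorProduct.map (π j) (π j) y = z := by
      intro z
      induction z using TensorProduct.induction_on with
      | zero =>
        obtain ⟨j⟩ := (IsFiltered.nonempty : Nonempty J)
        exact ⟨j, 0, map_zero _⟩
      | tmul b c =>
        obtain ⟨i, b', rfl⟩ := hsurj b
        obtain ⟨k, c', rfl⟩ := hsurj c
        exact ⟨IsFiltered.max i k, tr (IsFiltered.leftToMax i k) b' ⊗ₜ tr (IsFiltered.rightToMax i k) c',
          by simp [hπtr]⟩
      | add z w hz hw =>
        obtain ⟨i, y, rfl⟩ := hz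
        obtain ⟨k, v, rfl⟩ := hw
        have key : ∀ {p q : J} (a : p ⟶ q) (z : (D.obj p : Type u) ⊗[A] (D.obj p : Type u)),
            Algebra.TensorProduct.map (π q) (π q) (Algebra.TensorProduct.map (tr a) (tr a) z) =
              Algebra.TensorProduct.map (π p) (π p) z := fun a z => by
          rw [← AlgHom.comp_apply, ← Algebra.TensorProduct.map_comp]
          congr 2 <;> exact AlgHom.ext (hπtr a)
        exact ⟨IsFiltered.max i k, Algebra.TensorProduct.map (tr (IsFiltered.leftToMax i k)) (tr (IsFiltered.leftToMax i k)) y +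
          Algebra.TensorProduct.map (tr (IsFiltered.rightToMax i k)) (tr (IsFiltered.rightToMax i k)) v,
          by simp [key]⟩
    have key : ∀ {p q : J} (a : p ⟶ q) (z : (D.obj p : Type u) ⊗[A] (D.obj p : Type u)),
        Algebra.TensorProduct.map (π q) (π q) (Algebra.TensorProduct.map (tr a) (tr a) z) =
          Algebra.TensorProduct.map (π p) (π p) z := fun a z => by
      rw [← AlgHom.comp_apply, ← Algebra.TensorProduct.map_comp]
      congr 2 <;> exact AlgHom.ext (hπtr a)
    choose jf g hg using fun i => hpairs (f i)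
    obtain ⟨j₁, hj₁⟩ := hlift x
    choose y hy using hj₁
    obtain ⟨j₀, hj₀⟩ := hup Finset.univ jf
    let j := IsFiltered.max j₀ j₁
    let af : ∀ i, jf i ⟶ j := fun i => (hj₀ i (Finset.mem_univ i)).some ≫ IsFiltered.leftToMax j₀ j₁
    let ay : j₁ ⟶ j := IsFiltered.rightToMax j₀ j₁
    let f₀ := fun i => Algebra.TensorProduct.map (tr (af i)) (tr (af i)) (g i)
    let y₀ := fun i => tr ay (y i)
    have hmul : ∀ {p : J} (z : (D.obj p : Type u) ⊗[A] (D.obj p : Type u)),
        π p (Algebra.TensorProduct.lmul' A z) =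
          Algebra.TensorProduct.lmul' A (Algebra.TensorProduct.map (π p) (π p) z) := fun {p} z => by
      induction z using TensorProduct.induction_on with
      | zero => simp
      | tmul b c => simp
      | add z w hz hw => simp [hz, hw]
    have hmultr : ∀ {p q : J} (a : p ⟶ q) (z : (D.obj p : Type u) ⊗[A] (D.obj p : Type u)),
        tr a (Algebra.TensorProduct.lmul' A z) =
          Algebra.TensorProduct.lmul' A (Algebra.TensorProduct.map (tr a) (tr a) z) := fun {p q} a z => by
      induction z using TensorProduct.induction_on with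
      | zero => simp
      | tmul b c => simp
      | add z w hz hw => simp [hz, hw]
    obtain ⟨k, a, ha⟩ := hzero j (∑ i, Algebra.TensorProduct.lmul' A (f₀ i) * y₀ i) (by
      simp only [map_sum, map_mul, hmul, f₀, y₀, key, hπtr, hg, hy]
      exact hfx)
    let _ : Algebra ((D.obj k : Type u) ⊗[A] (D.obj k : Type u)) (D.obj k) :=
      (Algebra.TensorProduct.lmul' A).toRingHom.toAlgebra
    have hflat : Module.Flat ((D.obj k : Type u) ⊗[A] (D.obj k : Type u)) (D.obj k) :=
      Algebra.WeaklyEtale.flat_lmul' A (D.obj k)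
    refine ⟨(D.obj k : Type u) ⊗[A] (D.obj k : Type u), D.obj k, inferInstance, inferInstance, inferInstance,
      hflat, (Algebra.TensorProduct.map (π k) (π k)).toRingHom, (π k).toAddMonoidHom, fun r m => ?_,
      fun i => Algebra.TensorProduct.map (tr a) (tr a) (f₀ i), fun i => tr a (y₀ i), fun i => ?_, fun i => ?_, ?_⟩
    · show π k (Algebra.TensorProduct.lmul' A r * m) = _ * π k m
      rw [map_mul, hmul]
      rfl
    · show Algebra.TensorProduct.map (π k) (π k) _ = _
      rw [key, key, hg]
    · show π k (tr a (y₀ i)) = x i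
      rw [hπtr, hπtr, hy]
    · show ∑ i, Algebra.TensorProduct.lmul' A (Algebra.TensorProduct.map (tr a) (tr a) (f₀ i)) * tr a (y₀ i) = 0
      simp only [← hmultr, ← map_mul, ← map_sum]
      exact ha

end IndEtLib
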