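import Mathlib.CategoryTheory.MorphismProperty.Ind
import Mathlib.CategoryTheory.Filtered.Final
import Mathlib.Algebra.Category.Ring.FinitePresentation
import Mathlib.Algebra.Category.Ring.Constructions
import Mathlib.RingTheory.RingHom.Etale
import Mathlib.RingTheory.Smooth.NoetherianDescent
import Groth.Prelude.Def_PBC

/-!
# Ind-étale ring maps as `MorphismProperty.ind`
-/

set_option autoImplicit false
universe w v u

open CategoryTheory CategoryTheory.Limits TensorProduct

namespace IndEtLib

section General

variable {C : Type u} [Category.{v} C] [HasPushouts C] (P : MorphismProperty C)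
  [P.IsStableUnderCobaseChange]

set_option backward.isDefEq.respectTransparency false in
set_option backward.defeqAttrib.useBackward true in
/-- A filtered colimit of arrows in `P` is an `ind P` morphism. -/
theorem ind_of_colimit_arrows {J : Type w} [SmallCategory J] [IsFiltered J] {D₁ D₂ : J ⥤ C}
    (τ : D₁ ⟶ D₂) {c₁ : Cocone D₁} (hc₁ : IsColimit c₁) {c₂ : Cocone D₂} (hc₂ : IsColimit c₂)
    (f : c₁.pt ⟶ c₂.pt) (hf : ∀ j, τ.app j ≫ c₂.ι.app j = c₁.ι.app j ≫ f) (hP : ∀ j, P (τ.app j)) :
    MorphismProperty.ind.{w} P f := by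
  let D' : J ⥤ C :=
    { obj := fun j => pushout (τ.app j) (c₁.ι.app j)
      map := fun {i k} a => pushout.map _ _ _ _ (D₂.map a) (𝟙 c₁.pt) (D₁.map a)
        (τ.naturality a).symm (by simp)
      map_id := fun i => by apply pushout.hom_ext <;> simp
      map_comp := fun a b => by apply pushout.hom_ext <;> simp }
  let t : (Functor.const J).obj c₁.pt ⟶ D' :=
    { app := fun j => pushout.inr _ _
      naturality := fun i k a => by simp [D'] }
  let s : D' ⟶ (Functor.const J).obj c₂.pt :=
    { app := fun j => pushout.desc (c₂.ι.app j) f (hf j)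
      naturality := fun i k a => by apply pushout.hom_ext <;> simp [D'] }
  refine ⟨J, inferInstance, inferInstance, D', t, s, ?_, fun j =>
    ⟨P.pushout_inr _ _ (hP j), by simp [t, s]⟩⟩
  let cut : Cocone D' → Cocone D₂ := fun w =>
    { pt := w.pt
      ι :=
        { app := fun j => pushout.inl _ _ ≫ w.ι.app j
          naturality := fun i k a => by
            have := w.w a
            simp only [Functor.const_obj_map, Category.comp_id]
            rw [← this]
            simp [D'] } }
  have hfh : ∀ (w : Cocone D') (j : J), f ≫ hc₂.desc (cut w) = pushout.inr _ _ ≫ w.ι.app j := by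
    intro w j
    refine hc₁.hom_ext fun k => ?_
    have hconn : ∀ i k : J, pushout.inr (τ.app i) (c₁.ι.app i) ≫ w.ι.app i =
        pushout.inr (τ.app k) (c₁.ι.app k) ≫ w.ι.app k := fun i k => by
      rw [← w.w (IsFiltered.leftToMax i k), ← w.w (IsFiltered.rightToMax i k)]
      simp [D']
    rw [← Category.assoc, ← hf k, Category.assoc, hc₂.fac, hconn j k]
    exact pushout.condition_assoc _
  exact
    { desc := fun w => hc₂.desc (cut w)
      fac := fun w j => by
        apply pushout.hom_ext
        · rw [← Category.assoc]; simp [s, cut]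
        · rw [← Category.assoc]; simp [s, hfh w j]
      uniq := fun w m hm => hc₂.hom_ext fun j => by
        rw [hc₂.fac]
        show _ = pushout.inl _ _ ≫ w.ι.app j
        rw [← hm j]; simp [s] }

set_option backward.isDefEq.respectTransparency false in
set_option backward.defeqAttrib.useBackward true in
omit [HasPushouts C] [P.IsStableUnderCobaseChange] in
/-- Cancellation: if `h` is in `P` and `h ≫ g` is `ind P` then `g` is `ind P`. -/
theorem ind_of_precomp (hP : P ≤ MorphismProperty.isFinitelyPresentable.{w} C)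
    (hcancel : ∀ {X Y Z : C} (a : X ⟶ Y) (b : Y ⟶ Z), P a → P (a ≫ b) → P b)
    {X Y Z : C} (h : X ⟶ Y) (g : Y ⟶ Z) (hh : P h) (hhg : MorphismProperty.ind.{w} P (h ≫ g)) :
    MorphismProperty.ind.{w} P g := by
  obtain ⟨J, _, _, D, t, s, hs, hts⟩ := hhg
  obtain ⟨j₀, q, hq, hqs⟩ := MorphismProperty.exists_hom_of_isFinitelyPresentable hs (hP _ hh) t g
    fun j => (hts j).2
  let t' : (Functor.const (Under j₀)).obj Y ⟶ Under.forget j₀ ⋙ D :=
    { app := fun k => q ≫ D.map k.hom
      naturality := fun k l a => by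
        show 𝟙 Y ≫ q ≫ D.map l.hom = (q ≫ D.map k.hom) ≫ D.map a.right
        rw [Category.id_comp, Category.assoc, ← D.map_comp, Under.w a] }
  refine ⟨Under j₀, inferInstance, inferInstance, Under.forget j₀ ⋙ D, t', Functor.whiskerLeft _ s,
    (Functor.Final.isColimitWhiskerEquiv (Under.forget j₀) _).symm hs, fun k => ⟨?_, ?_⟩⟩
  · refine hcancel h _ hh ?_
    have := t.naturality k.hom
    simp only [Functor.const_obj_map] at this
    erw [Category.id_comp] at this
    show P (h ≫ q ≫ D.map k.hom)
    rw [reassoc_of% hq, ← this]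
    exact (hts _).1
  · show (q ≫ D.map k.hom) ≫ s.app k.right = g
    rw [Category.assoc]
    have := s.naturality k.hom
    simp only [Functor.const_obj_map] at this
    erw [Category.comp_id] at this
    rw [this]
    exact hqs

set_option backward.isDefEq.respectTransparency false in
set_option backward.defeqAttrib.useBackward true in
/-- Composites of `ind P` morphisms are `ind P` (no accessibility hypothesis). -/
theorem ind_comp [P.IsStableUnderComposition] [MorphismProperty.PreIndSpreads.{w} P] [LocallySmall.{w} C]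
    (hP : P ≤ MorphismProperty.isFinitelyPresentable.{w} C) {X Y Z : C} {f : X ⟶ Y} {g : Y ⟶ Z}
    (hf : MorphismProperty.ind.{w} P f) (hg : MorphismProperty.ind.{w} P g) :
    MorphismProperty.ind.{w} P (f ≫ g) := by
  rw [← MorphismProperty.ind_ind hP]
  obtain ⟨J₂, _, _, D₂, s₂, t₂, ht₂, h₂⟩ := hg
  refine ⟨J₂, inferInstance, inferInstance, D₂, (Functor.const J₂).map f ≫ s₂, t₂, ht₂, fun j₂ => ⟨?_, ?_⟩⟩
  swap
  · simp [(h₂ j₂).2]
  obtain ⟨J₁, _, _, D₁, s₁, t₁, ht₁, h₁⟩ := hf
  obtain ⟨j₁, W, f', g', h, hf'⟩ := P.exists_isPushout_of_isFiltered ht₁ (s₂.app j₂) (h₂ j₂).1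
  let D' : Under j₁ ⥤ C := (Under.post D₁ ⋙ Under.pushout f') ⋙ CategoryTheory.Under.forget _
  let c' : Cocone D' :=
    ((Under.pushout f' ⋙ CategoryTheory.Under.forget _).mapCocone
      ((Cocone.mk _ t₁).underPost j₁)).extend h.isoPushout.inv
  let hc' : IsColimit c' := IsColimit.extendIso _ <| isColimitOfPreserves _ (ht₁.underPost j₁)
  let s' : (Functor.const (Under j₁)).obj X ⟶ D' :=
    { app := fun k => s₁.app k.right ≫ pushout.inl _ _
      naturality := fun k l a => by
        have h2 := s₁.naturality a.right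
        simp only [Functor.const_obj_obj, Functor.const_obj_map, Category.id_comp] at h2
        simp [h2, D'] }
  refine ⟨Under j₁, inferInstance, inferInstance, D', s', c'.ι, hc', fun k =>
    ⟨P.comp_mem _ _ (h₁ _).1 (P.pushout_inl _ _ hf'), ?_⟩⟩
  simp [c', s', reassoc_of% (h₁ k.right).2]

end General

/-- Étale ring maps as a morphism property. -/
def Et : MorphismProperty CommRingCat.{u} := RingHom.toMorphismProperty RingHom.Etale

instance : Et.{u}.IsStableUnderCobaseChange :=
  RingHom.isStableUnderCobaseChange_toMorphismProperty_iff.2 RingHom.Etale.isStableUnderBaseChange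

instance : Et.{u}.IsStableUnderComposition :=
  ⟨fun f g hf hg => RingHom.Etale.stableUnderComposition f.hom g.hom hf hg⟩

theorem et_le : Et.{u} ≤ MorphismProperty.isFinitelyPresentable.{u} CommRingCat.{u} := fun _ _ f hf =>
  CommRingCat.isFinitelyPresentable_hom f (RingHom.Etale.iff_flat_and_formallyUnramified.1 hf).2.2

theorem et_cancel {X Y Z : CommRingCat.{u}} (a : X ⟶ Y) (b : Y ⟶ Z) (ha : Et a) (hab : Et (a ≫ b)) :
    Et b := by
  let := a.hom.toAlgebra
  let := b.hom.toAlgebra
  let := (b.hom.comp a.hom).toAlgebra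
  have : IsScalarTower X Y Z := IsScalarTower.of_algebraMap_eq fun _ => rfl
  have : Algebra.Etale X Y := ha
  have : Algebra.Etale X Z := hab
  exact Algebra.Etale.of_restrictScalars (R := X) (A := Y) (B := Z)

set_option backward.isDefEq.respectTransparency false in
set_option backward.defeqAttrib.useBackward true in
instance : MorphismProperty.PreIndSpreads.{u} Et.{u} where
  exists_isPushout {J _ _ D c} hc T f hf := by
    algebraize [f.hom]
    have : Algebra.Etale c.pt T := hf
    let R : CommRingCat.{u} := CommRingCat.of (ULift.{u} ℤ)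
    let φ : ∀ S : CommRingCat.{u}, R ⟶ S := fun S =>
      CommRingCat.ofHom ((Int.castRingHom S).comp ULift.ringEquiv.toRingHom)
    letI : Algebra (ULift.{u} ℤ) c.pt := (φ c.pt).hom.toAlgebra
    obtain ⟨A₀, B₀, _, _, hfg, _, ⟨e⟩⟩ :=
      Algebra.Etale.exists_subalgebra_fg (ULift.{u} ℤ) c.pt T
    haveI : IsNoetherianRing (ULift.{u} ℤ) := isNoetherianRing_of_ringEquiv ℤ ULift.ringEquiv.symm
    have hFT : Algebra.FiniteType (ULift.{u} ℤ) A₀ := (Subalgebra.fg_iff_finiteType A₀).mp hfg
    have hfp : (CommRingCat.ofHom (algebraMap (ULift.{u} ℤ) A₀)).hom.FinitePresentation :=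
      RingHom.finitePresentation_algebraMap.2 (Algebra.FinitePresentation.of_finiteType.1 hFT)
    have hnat : ∀ {i k : J} (a : i ⟶ k), φ (D.obj i) ≫ D.map a = φ (D.obj k) := fun a => by
      ext x
      obtain ⟨n, rfl⟩ := ULift.ringEquiv.symm.surjective x
      simp [φ]
    let α : (Functor.const J).obj R ⟶ D :=
      { app := fun i => φ (D.obj i)
        naturality := fun i k a => by simp [hnat a] }
    obtain ⟨j, g, -, hg⟩ := RingHom.EssFiniteType.exists_eq_comp_ι_app_of_isColimit R D α
      (CommRingCat.ofHom (algebraMap (ULift.{u} ℤ) A₀)) c hc hfp (CommRingCat.ofHom A₀.val.toRingHom)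
      (fun i => by
        ext x
        obtain ⟨n, rfl⟩ := ULift.ringEquiv.symm.surjective x
        simp [α, φ])
    let eB : CommRingCat.of A₀ ⟶ CommRingCat.of B₀ := CommRingCat.ofHom (algebraMap A₀ B₀)
    have heB : Et eB := RingHom.etale_algebraMap.2 inferInstance
    have hbig : IsPushout (CommRingCat.ofHom A₀.val.toRingHom : CommRingCat.of A₀ ⟶ c.pt) eB f
        (CommRingCat.ofHom ((e.symm : c.pt ⊗[A₀] B₀ →+* T).comp
          Algebra.TensorProduct.includeRight.toRingHom)) := by
      refine (CommRingCat.isPushout_tensorProduct A₀ c.pt B₀).of_iso (Iso.refl _) (Iso.refl _) (Iso.refl _)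
        e.symm.toRingEquiv.toCommRingCatIso ?_ ?_ ?_ ?_
      · ext; rfl
      · ext; rfl
      · ext x
        show e.symm (algebraMap c.pt (c.pt ⊗[A₀] B₀) x) = f x
        rw [AlgEquiv.commutes]
        rfl
      · ext; rfl
    rw [hg] at hbig
    refine ⟨j, pushout g eB, pushout.inl _ _,
      pushout.desc (c.ι.app j ≫ f) (CommRingCat.ofHom ((e.symm : c.pt ⊗[A₀] B₀ →+* T).comp
          Algebra.TensorProduct.includeRight.toRingHom)) (by rw [← Category.assoc]; exact hbig.w), ?_,
      Et.pushout_inl _ _ heB⟩
    refine IsPushout.of_left (h₁₁ := g) (v₁₁ := eB) (h₂₁ := pushout.inr g eB) ?_ (by simp) (IsPushout.of_hasPushout g eB)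
    simpa using hbig

variable (A B : Type u) [CommRing A] [CommRing B] [Algebra A B]

set_option backward.isDefEq.respectTransparency false in
set_option backward.defeqAttrib.useBackward true in
theorem isIndEtale_iff :
    EtPBC.IsIndEtale A B ↔ MorphismProperty.ind.{u} Et (CommRingCat.ofHom (algebraMap A B)) := by
  rw [MorphismProperty.ind_iff_ind_underMk]
  constructor
  · rintro ⟨J, _, _, D, c, hc, het, ⟨e⟩⟩
    exact ⟨J, inferInstance, inferInstance, (ColimitPresentation.mk D c.ι hc).ofIso e, het⟩
  · rintro ⟨J, _, _, pres, h⟩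
    exact ⟨J, inferInstance, inferInstance, pres.diag, pres.cocone, pres.isColimit, h, ⟨Iso.refl _⟩⟩

end IndEtLib
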